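import Cfsg.Prelude.Def_Transfer
import Cfsg.Agent.Lib.Coprime.Generation
import Cfsg.Agent.Lib.PLocal.Cores
import Cfsg.Agent.S0594

/-!
# A transitive commutator property forces a transvection
-/

set_option autoImplicit false

namespace Cfsg.Agent.SolvStruct.SchmidtSylow

open scoped commutatorElement Pointwise

theorem configuration {G : Type*} [Group G] [Finite G] {p : ℕ} [hp : Fact p.Prime]
    (U A M Q : Subgroup G) [hUn : U.Normal] [IsMulCommutative U] (hUe : ∀ u ∈ U, u ^ p = 1)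
    (hQp : IsPGroup p Q) (hUQ : U ≤ Q) (hAQ : A ≤ Q) (hQ : U ⊔ A = Q)
    (hAM : A ≤ Subgroup.normalizer (M : Set G)) (hM : (Nat.card M).Coprime p)
    (hMU : M ⊓ Subgroup.centralizer (U : Set G) = ⊥)
    (hQU : Q ⊓ Subgroup.centralizer (U : Set G) ≤ U)
    (hAM0 : A ⊓ Subgroup.centralizer (M : Set G) = ⊥) (hA1 : A ≠ ⊥)
    (hcen : ∀ x ∈ Q, ∀ y ∈ Q, ∀ z ∈ Q, Commute z ⁅x, y⁆)
    (hcommU : ∀ a ∈ A, ∀ b ∈ A, ⁅a, b⁆ ∈ U)
    (hprop : ∀ E : Subgroup G, ∀ x ∈ Q, x ∉ Subgroup.centralizer (Q : Set G) →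
      (∀ y ∈ Q, ⁅x, y⁆ ∈ E) → ∀ y ∈ Q, ∀ z ∈ Q, ⁅y, z⁆ ∈ E) :
    Nat.card Q = p ^ 2 * Nat.card ↥(Q ⊓ Subgroup.centralizer (Q : Set G)) ∧
      (p = 2 ∨ p = 3) ∧ ∃ u ∈ U, u ∉ Subgroup.centralizer (Q : Set G) := by
  classical
  have hUA : Disjoint U A := by
    rw [disjoint_iff, eq_bot_iff, ← hAM0]
    rintro a ⟨haU, haA⟩
    refine ⟨haA, Subgroup.mem_centralizer_iff.2 fun m hm => ?_⟩
    have h1 : ⁅m, a⁆ ∈ U := mul_mem (hUn.conj_mem a haU m) (inv_mem haU)
    have h2 : ⁅m, a⁆ ∈ M := by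
      have := mul_mem hm ((Subgroup.mem_normalizer_iff.1 (hAM haA) _).1 (inv_mem hm))
      simpa [commutatorElement_def, mul_assoc] using this
    have h3 : ⁅m, a⁆ ∈ M ⊓ Subgroup.centralizer (U : Set G) := ⟨h2, Subgroup.mem_centralizer_iff.2
      fun u hu => congrArg Subtype.val (mul_comm' (M := U) ⟨u, hu⟩ ⟨_, h1⟩)⟩
    rw [hMU, Subgroup.mem_bot, commutatorElement_eq_one_iff_mul_comm] at h3
    exact h3
  haveI hAc : IsMulCommutative A := ⟨⟨fun a b => Subtype.ext (by
    have h1 : ⁅(a : G), (b : G)⁆ ∈ A := by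
      rw [commutatorElement_def]
      exact mul_mem (mul_mem (mul_mem a.2 b.2) (inv_mem a.2)) (inv_mem b.2)
    exact commutatorElement_eq_one_iff_mul_comm.1
      (Subgroup.mem_bot.1 (hUA.le_bot ⟨hcommU (a : G) a.2 (b : G) b.2, h1⟩)))⟩⟩
  have hAc' : ∀ a ∈ A, ∀ b ∈ A, Commute a b := fun a ha b hb =>
    congrArg Subtype.val (mul_comm' (M := A) ⟨a, ha⟩ ⟨b, hb⟩)
  have hCA : ∀ a ∈ A, a ∈ Subgroup.centralizer (U : Set G) → a = 1 := fun a ha h =>
    Subgroup.mem_bot.1 (hUA.le_bot ⟨hQU ⟨hAQ ha, h⟩, ha⟩)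
  have hQdec : ∀ x ∈ Q, ∃ u ∈ U, ∃ a ∈ A, u * a = x := fun x hx => by
    rw [← hQ] at hx
    exact Subgroup.mem_sup_of_normal_left.1 hx
  have hmulu : ∀ u ∈ U, ∀ v ∈ U, Commute u v := fun u hu v hv =>
    congrArg Subtype.val (mul_comm' (M := U) ⟨u, hu⟩ ⟨v, hv⟩)
  have hmem : ∀ a : G, ∀ u ∈ U, ⁅u, a⁆ ∈ U := fun a u hu => by
    have := mul_mem hu (hUn.conj_mem _ (inv_mem hu) a)
    simpa [commutatorElement_def, mul_assoc] using this
  let φ : G → (U →* G) := fun a =>
    { toFun := fun u => ⁅(u : G), a⁆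
      map_one' := by simp
      map_mul' := fun u v => by
        show ⁅(u : G) * v, a⁆ = _
        rw [commutatorElement_mul_left_eq_conj_mul, (hmulu u u.2 _ (hmem a v v.2)).eq,
          mul_inv_cancel_right, (hmulu _ (hmem a v v.2) _ (hmem a u u.2)).eq] }
  have hφU : ∀ a, (φ a).range ≤ U := by
    rintro a _ ⟨u, rfl⟩; exact hmem a u u.2
  have hnc : ∀ a ∈ A, a ≠ 1 → a ∉ Subgroup.centralizer (Q : Set G) := fun a ha ha1 h =>
    ha1 (hCA a ha (Subgroup.centralizer_le hUQ h))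
  -- every commutator is a commutator with `a`
  have hD : ∀ a ∈ A, a ≠ 1 → ∀ y ∈ Q, ∀ z ∈ Q, ⁅y, z⁆ ∈ (φ a).range := by
    intro a ha ha1
    refine hprop _ a (hAQ ha) (hnc a ha ha1) fun y hy => ?_
    obtain ⟨u, hu, b, hb, rfl⟩ := hQdec y hy
    have h1 : ⁅a, b⁆ = 1 := commutatorElement_eq_one_iff_mul_comm.2 (hAc' a ha b hb)
    rw [commutatorElement_mul_right_eq_mul_conj, h1, mul_one, mul_inv_cancel_right, ← commutatorElement_inv]
    exact inv_mem ⟨⟨u, hu⟩, rfl⟩
  set D := Subgroup.closure {c : G | ∃ y ∈ Q, ∃ z ∈ Q, c = ⁅y, z⁆} with hDdef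
  have hDeq : ∀ a ∈ A, a ≠ 1 → D = (φ a).range := fun a ha ha1 =>
    le_antisymm ((Subgroup.closure_le _).2 (by rintro _ ⟨y, hy, z, hz, rfl⟩; exact hD a ha ha1 y hy z hz))
      (by rintro _ ⟨u, rfl⟩; exact Subgroup.subset_closure ⟨u, hUQ u.2, a, hAQ ha, rfl⟩)
  have hDQ : ∀ x ∈ Q, x ∈ Subgroup.centralizer (D : Set G) := fun x hx => by
    rw [hDdef, Subgroup.centralizer_closure, Subgroup.mem_centralizer_iff]
    rintro _ ⟨y, hy, z, hz, rfl⟩
    exact (hcen y hy z hz x hx).eq.symm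
  obtain ⟨a, ha, ha1⟩ := (Subgroup.bot_or_exists_ne_one A).resolve_left hA1
  have hexp : ∀ b ∈ A, b ^ p = 1 := by
    intro b hb
    refine hCA _ (pow_mem hb p) (Subgroup.mem_centralizer_iff.2 fun u hu => ?_)
    have hc : Commute b ⁅u, b⁆ := hcen u (hUQ hu) b (hAQ hb) b (hAQ hb)
    have h2 : u * b * u⁻¹ = ⁅u, b⁆ * b := by simp [commutatorElement_def]
    have h3 := congrArg (· ^ p) h2
    simp only [conj_pow, (hc.symm).mul_pow, hUe _ (hmem b u hu), one_mul] at h3
    exact mul_inv_eq_iff_eq_mul.1 h3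
  have hAp : IsPGroup p A := hQp.to_le hAQ
  have hMA : A ⊓ M = ⊥ :=
    PLocal.Cores.inf_eq_bot_of_isPGroup_of_coprime hAp hM
  by_cases hcyc : ¬ IsCyclic A
  · exfalso
    have hMn : ∀ m ∈ M, m ∈ Subgroup.normalizer (D : Set G) := by
      have hle : M ≤ Subgroup.normalizer (D : Set G) := by
        rw [← Coprime.fixedGen_eq hcyc hAM
          (PLocal.Cores.coprime_card_of_isPGroup hAp hM)]
        refine iSup₂_le fun b hb m hm => ?_
        obtain ⟨hbA, hb1⟩ := hb
        have hmb : Commute m b := Subgroup.mem_centralizer_singleton_iff.1 hm.2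
        rw [hDeq b hbA hb1]
        refine Coprime.conj_smul_eq_self_iff.1 (Subgroup.eq_of_le_of_card_ge ?_ (Coprime.card_conj_smul _ _).ge)
        rintro _ ⟨_, ⟨u, rfl⟩, rfl⟩
        refine ⟨⟨m * u * m⁻¹, hUn.conj_mem u u.2 m⟩, ?_⟩
        show ⁅m * (u : G) * m⁻¹, b⁆ = m * ⁅(u : G), b⁆ * m⁻¹
        conv_lhs => rw [show b = m * b * m⁻¹ from by rw [hmb.eq, mul_inv_cancel_right]]
        rw [conjugate_commutatorElement]
      exact fun m hm => hle hm
    have hDU : D ≤ U := hDeq a ha ha1 ▸ hφU a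
    refine hA1 (eq_bot_iff.2 fun b hb => ?_)
    rw [← hAM0]
    refine ⟨hb, Subgroup.mem_centralizer_iff.2 fun m hm => ?_⟩
    have hbU : ∀ u ∈ U, ⁅b, u⁆ ∈ D := fun u hu =>
      Subgroup.subset_closure ⟨b, hAQ hb, u, hUQ hu, rfl⟩
    have hbD : ∀ d ∈ D, b * d * b⁻¹ = d := fun d hd =>
      mul_inv_eq_iff_eq_mul.2 (Subgroup.mem_centralizer_iff.1 (hDQ b (hAQ hb)) d hd).symm
    have hcM : ⁅m, b⁆ ∈ M := by
      have := mul_mem hm ((Subgroup.mem_normalizer_iff.1 (hAM hb) _).1 (inv_mem hm))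
      simpa [commutatorElement_def, mul_assoc] using this
    set c := ⁅m, b⁆ with hc
    have hconjD : ∀ d ∈ D, c * d * c⁻¹ = d := by
      intro d hd
      have h1 : m⁻¹ * d * m ∈ D := by
        simpa using (Subgroup.mem_normalizer_iff.1 (inv_mem (hMn m hm)) d).1 hd
      have h2 : b⁻¹ * d * b = d := by
        conv_lhs => rw [← hbD d hd]
        group
      calc c * d * c⁻¹ = m * (b * (m⁻¹ * (b⁻¹ * d * b) * m) * b⁻¹) * m⁻¹ := by
            rw [hc, commutatorElement_def]; group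
        _ = m * (m⁻¹ * d * m) * m⁻¹ := by rw [h2, hbD _ h1]
        _ = d := by group
    have hconjU : ∀ u ∈ U, u⁻¹ * (c * u * c⁻¹) ∈ D := by
      intro u hu
      set u1 := b⁻¹ * u * b with hu1
      have hu1U : u1 ∈ U := by simpa [hu1] using hUn.conj_mem u hu b⁻¹
      set u2 := m⁻¹ * u1 * m with hu2
      have hu2U : u2 ∈ U := by simpa [hu2] using hUn.conj_mem u1 hu1U m⁻¹
      have d1 : u⁻¹ * u1 ∈ D := by
        have := hbU u1 hu1U
        rw [commutatorElement_def, show b * u1 * b⁻¹ = u by rw [hu1]; group] at this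
        have h' := inv_mem this
        rw [mul_inv_rev, inv_inv] at h'
        rwa [(hmulu u1 hu1U u⁻¹ (inv_mem hu)).eq] at h'
      have d2 : u2⁻¹ * (b * u2 * b⁻¹) ∈ D := by
        have := hbU u2 hu2U
        rw [commutatorElement_def] at this
        rwa [(hmulu _ (hUn.conj_mem u2 hu2U b) _ (inv_mem hu2U)).eq] at this
      have e : u⁻¹ * (c * u * c⁻¹) = (u⁻¹ * u1) * (m * (u2⁻¹ * (b * u2 * b⁻¹)) * m⁻¹) := by
        rw [hu2, hu1, hc, commutatorElement_def]; group
      rw [e]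
      exact mul_mem d1 ((Subgroup.mem_normalizer_iff.1 (hMn m hm) _).1 d2)
    have hcU : c ∈ M ⊓ Subgroup.centralizer (U : Set G) := by
      refine ⟨hcM, Subgroup.mem_centralizer_iff.2 fun u hu => ?_⟩
      set d := u⁻¹ * (c * u * c⁻¹) with hd
      have hd' : d ∈ D := hconjU u hu
      have hk : ∀ k : ℕ, c ^ k * u * (c ^ k)⁻¹ = u * d ^ k := by
        intro k
        induction k with
        | zero => simp
        | succ k ih =>
          calc c ^ (k + 1) * u * (c ^ (k + 1))⁻¹ = c * (c ^ k * u * (c ^ k)⁻¹) * c⁻¹ := by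
                rw [pow_succ']; group
            _ = (c * u * c⁻¹) * (c * d ^ k * c⁻¹) := by rw [ih]; group
            _ = _ := by rw [hconjD _ (pow_mem hd' k), pow_succ', ← mul_assoc, hd, mul_inv_cancel_left]
      have h1 : d ^ Nat.card M = 1 := by
        have := hk (Nat.card M)
        rw [show c ^ Nat.card M = 1 from congrArg Subtype.val (pow_card_eq_one' (x := (⟨c, hcM⟩ : M)))] at this
        simpa using this.symm
      have h2 : d = 1 := by
        rw [← orderOf_eq_one_iff]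
        exact Nat.eq_one_of_dvd_coprimes hM (orderOf_dvd_of_pow_eq_one h1)
          (orderOf_dvd_of_pow_eq_one (hUe d (hDU hd')))
      rw [hd, inv_mul_eq_one] at h2
      exact mul_inv_eq_iff_eq_mul.1 h2.symm |>.symm
    rw [hMU, Subgroup.mem_bot, hc, commutatorElement_eq_one_iff_mul_comm] at hcU
    exact hcU
  rw [not_not] at hcyc
  -- `A` has order `p`
  have hcardA : Nat.card A = p := by
    obtain ⟨g, hg⟩ := hcyc.exists_generator
    have hg' : Nat.card A = orderOf g := (orderOf_eq_card_of_forall_mem_zpowers hg).symm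
    have : orderOf g ∣ p := orderOf_dvd_of_pow_eq_one (Subtype.ext (by simpa using hexp g g.2))
    rcases (Nat.dvd_prime hp.out).1 this with h | h
    · exact absurd (Subgroup.card_eq_one.1 (hg'.trans h)) hA1
    · exact hg'.trans h
  have hAz : A = Subgroup.zpowers a := (Subgroup.eq_of_le_of_card_ge (Subgroup.zpowers_le.2 ha) (by
    rw [Nat.card_zpowers, orderOf_eq_prime (hexp a ha) ha1, hcardA])).symm
  obtain ⟨u, hu, huc⟩ : ∃ u ∈ U, u ∉ Subgroup.centralizer (Q : Set G) := by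
    by_contra h
    push Not at h
    refine ha1 (hCA a ha (Subgroup.mem_centralizer_iff.2 fun u hu => ?_))
    exact (Subgroup.mem_centralizer_iff.1 (h u hu) a (hAQ ha)).symm
  -- `D` has order `p`
  have hDz : D = Subgroup.zpowers ⁅u, a⁆ := by
    refine le_antisymm ((Subgroup.closure_le _).2 ?_)
      (Subgroup.zpowers_le.2 (Subgroup.subset_closure ⟨u, hUQ hu, a, hAQ ha, rfl⟩))
    rintro _ ⟨y, hy, z, hz, rfl⟩
    refine hprop _ u (hUQ hu) huc (fun w hw => ?_) y hy z hz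
    obtain ⟨v, hv, b, hb, rfl⟩ := hQdec w hw
    rw [hAz, Subgroup.mem_zpowers_iff] at hb
    obtain ⟨i, rfl⟩ := hb
    have hc : Commute a ⁅u, a⁆ := hcen u (hUQ hu) a (hAQ ha) a (hAQ ha)
    have h2 : u * a * u⁻¹ = ⁅u, a⁆ * a := by simp [commutatorElement_def]
    have h3 := congrArg (· ^ i) h2
    simp only [conj_zpow, (hc.symm).mul_zpow] at h3
    have h4 : ⁅u, v * a ^ i⁆ = v * ⁅u, a ^ i⁆ * v⁻¹ := by
      rw [commutatorElement_mul_right_eq_mul_conj,
        commutatorElement_eq_one_iff_mul_comm.2 (hmulu u hu v hv).eq, one_mul]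
    rw [h4, (hmulu v hv _ (hmem _ u hu)).eq, mul_inv_cancel_right,
      commutatorElement_def u (a ^ i), h3, mul_inv_cancel_right]
    exact Subgroup.zpow_mem _ (Subgroup.mem_zpowers _) i
  have hua : ⁅u, a⁆ ≠ 1 := fun h => by
    refine ha1 (hCA a ha (Subgroup.mem_centralizer_iff.2 fun v hv => ?_))
    have hv' : ⁅v, a⁆ ∈ D := Subgroup.subset_closure ⟨v, hUQ hv, a, hAQ ha, rfl⟩
    rw [hDz, h, Subgroup.zpowers_one_eq_bot, Subgroup.mem_bot, commutatorElement_eq_one_iff_mul_comm] at hv'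
    exact hv'
  have hDp : Nat.card D = p := by
    rw [hDz, Nat.card_zpowers, orderOf_eq_prime (hUe _ (hmem a u hu)) hua]
  -- counting
  have hker : (φ a).ker = (U ⊓ Subgroup.centralizer ({a} : Set G)).subgroupOf U := by
    ext v
    simp only [MonoidHom.mem_ker, Subgroup.mem_subgroupOf, Subgroup.mem_inf, v.2, true_and,
      Subgroup.mem_centralizer_singleton_iff]
    exact commutatorElement_eq_one_iff_mul_comm
  have hC : Q ⊓ Subgroup.centralizer (Q : Set G) = U ⊓ Subgroup.centralizer ({a} : Set G) := by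
    refine le_antisymm (fun x hx => ?_) (fun x hx => ⟨hUQ hx.1, Subgroup.mem_centralizer_iff.2 fun y hy => ?_⟩)
    · exact ⟨hQU ⟨hx.1, Subgroup.centralizer_le hUQ hx.2⟩, Subgroup.mem_centralizer_singleton_iff.2
        (Subgroup.mem_centralizer_iff.1 hx.2 a (hAQ ha)).symm⟩
    · obtain ⟨v, hv, b, hb, rfl⟩ := hQdec y hy
      rw [hAz, Subgroup.mem_zpowers_iff] at hb
      obtain ⟨i, rfl⟩ := hb
      exact ((hmulu v hv x hx.1).mul_left
        ((show Commute x a from Subgroup.mem_centralizer_singleton_iff.1 hx.2).symm.zpow_left i)).eq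
  have hQc : Nat.card Q = Nat.card U * p := by
    rw [← hQ, Coprime.card_sup_of_disjoint Subgroup.le_normalizer_of_normal hUA, hcardA]
  have hUc : Nat.card U = p * Nat.card ↥(U ⊓ Subgroup.centralizer ({a} : Set G)) := by
    have h1 := Subgroup.card_eq_card_quotient_mul_card_subgroup (φ a).ker
    rw [Nat.card_congr (QuotientGroup.quotientKerEquivRange (φ a)).toEquiv, ← hDeq a ha ha1, hDp, hker,
      Nat.card_congr (Subgroup.subgroupOfEquivOfLe inf_le_left).toEquiv] at h1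
    exact h1
  refine ⟨by rw [hQc, hUc, hC]; ring, ?_, u, hu, huc⟩
  -- the two quadratic generators
  by_cases hp2 : p = 2
  · exact Or.inl hp2
  refine Or.inr ?_
  obtain ⟨m, hm, hma⟩ : ∃ m ∈ M, ¬ Commute a ⁅m, a⁆ := by
    by_contra hall
    push Not at hall
    apply ha1
    rw [← Subgroup.mem_bot, ← hAM0]
    refine ⟨ha, Subgroup.mem_centralizer_iff.2 fun m hm => ?_⟩
    have hcM : ⁅m, a⁆ ∈ M := by
      have := mul_mem hm ((Subgroup.mem_normalizer_iff.1 (hAM ha) _).1 (inv_mem hm))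
      simpa [commutatorElement_def, mul_assoc] using this
    have hc := hall m hm
    have h2 : m * a * m⁻¹ = ⁅m, a⁆ * a := by simp [commutatorElement_def]
    have h3 := congrArg (· ^ p) h2
    simp only [conj_pow, hc.symm.mul_pow, hexp a ha, mul_one, mul_inv_cancel] at h3
    have h4 : ⁅m, a⁆ = 1 := by
      rw [← orderOf_eq_one_iff]
      exact Nat.eq_one_of_dvd_coprimes hM (Subgroup.orderOf_mk _ hcM ▸ orderOf_dvd_natCard (⟨_, hcM⟩ : M))
        (orderOf_dvd_of_pow_eq_one h3.symm)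
    exact commutatorElement_eq_one_iff_mul_comm.1 h4
  set b := m * a * m⁻¹ with hb
  set H := Subgroup.closure ({a, b} : Set G) with hH
  have hbMA : b ∈ M ⊔ A := mul_mem (mul_mem (Subgroup.mem_sup_left hm) (Subgroup.mem_sup_right ha))
    (inv_mem (Subgroup.mem_sup_left hm))
  have hHMA : H ≤ M ⊔ A := (Subgroup.closure_le _).2
    (Set.insert_subset (Subgroup.mem_sup_right ha) (Set.singleton_subset_iff.2 hbMA))
  have hMAn : (M ⊔ A : Subgroup G) ≤ Subgroup.normalizer (M : Set G) := sup_le Subgroup.le_normalizer hAM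
  have hfaith : (M ⊔ A) ⊓ Subgroup.centralizer (U : Set G) = ⊥ := by
    rw [eq_bot_iff]
    rintro x ⟨hx, hxU⟩
    obtain ⟨n, hn, c, hc, rfl⟩ := (Coprime.mem_sup_of_le_normalizer hAM).1 hx
    have hxm : ∀ k ∈ M, Commute (n * c) k := by
      intro k hk
      have h1 : ⁅n * c, k⁆ ∈ M := by
        have := mul_mem ((Subgroup.mem_normalizer_iff.1 (hMAn hx) k).1 hk) (inv_mem hk)
        rwa [commutatorElement_def]
      have h2 : ⁅n * c, k⁆ ∈ Subgroup.centralizer (U : Set G) := by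
        haveI : (Subgroup.centralizer (U : Set G)).Normal := inferInstance
        have := mul_mem hxU ((inferInstance : (Subgroup.centralizer (U : Set G)).Normal).conj_mem _
          (inv_mem hxU) k)
        simpa [commutatorElement_def, mul_assoc] using this
      exact commutatorElement_eq_one_iff_commute.1 (Subgroup.mem_bot.1 (hMU ▸ ⟨h1, h2⟩))
    have hnc' : Commute n c := by
      have h1 : n * c * n = n * (n * c) := hxm n hn
      rw [mul_assoc] at h1
      exact (mul_left_cancel h1).symm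
    have hxp : (n * c) ^ p = 1 := by
      have h1 : n ^ p ∈ M ⊓ Subgroup.centralizer (U : Set G) := by
        refine ⟨pow_mem hn p, ?_⟩
        have := pow_mem hxU p
        rwa [hnc'.mul_pow, hexp c hc, mul_one] at this
      rw [hMU, Subgroup.mem_bot] at h1
      rw [hnc'.mul_pow, h1, hexp c hc, one_mul]
    have hn1 : n = 1 := by
      rw [hnc'.mul_pow, hexp c hc, mul_one] at hxp
      rw [← orderOf_eq_one_iff]
      exact Nat.eq_one_of_dvd_coprimes hM (Subgroup.orderOf_mk _ hn ▸ orderOf_dvd_natCard (⟨_, hn⟩ : M))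
        (orderOf_dvd_of_pow_eq_one hxp)
    subst hn1
    rw [one_mul] at hxU ⊢
    exact Subgroup.mem_bot.2 (hCA c hc hxU)
  have hquad : ∀ x : G, x ∈ Subgroup.zpowers a →
      ⁅⁅U, Subgroup.zpowers a⁆, Subgroup.zpowers a⁆ = ⊥ := by
    intro x _
    rw [Subgroup.commutator_eq_bot_iff_le_centralizer]
    refine (?_ : ⁅U, Subgroup.zpowers a⁆ ≤ D).trans ?_
    · rw [Subgroup.commutator_le]
      intro v hv c hc
      exact Subgroup.subset_closure ⟨v, hUQ hv, c, hAQ (hAz ▸ hc), rfl⟩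
    · rw [Subgroup.le_centralizer_iff, Subgroup.zpowers_le]
      exact hDQ a (hAQ ha)
  have hqa := hquad a (Subgroup.mem_zpowers a)
  have hqb : ⁅⁅U, Subgroup.zpowers b⁆, Subgroup.zpowers b⁆ = ⊥ := by
    have h1 : (Subgroup.zpowers a).map (MulAut.conj m).toMonoidHom = Subgroup.zpowers b := by
      rw [MonoidHom.map_zpowers]; rfl
    have h2 : U.map (MulAut.conj m).toMonoidHom = U :=
      Subgroup.eq_of_le_of_card_ge (by rintro _ ⟨v, hv, rfl⟩; exact hUn.conj_mem v hv m)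
        (Subgroup.card_map_of_injective (MulAut.conj m).injective).ge
    have h3 := congrArg (Subgroup.map (MulAut.conj m).toMonoidHom) hqa
    rwa [Subgroup.map_commutator, Subgroup.map_commutator, h1, h2, Subgroup.map_bot] at h3
  have hcH : ⁅m, a⁆ ∈ H := by
    have : ⁅m, a⁆ = b * a⁻¹ := by rw [hb, commutatorElement_def]
    rw [this]
    exact mul_mem (Subgroup.subset_closure (Or.inr rfl)) (inv_mem (Subgroup.subset_closure (Or.inl rfl)))
  have hcM : ⁅m, a⁆ ∈ M := by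
    have := mul_mem hm ((Subgroup.mem_normalizer_iff.1 (hAM ha) _).1 (inv_mem hm))
    simpa [commutatorElement_def, mul_assoc] using this
  have hc1 : ⁅m, a⁆ ≠ 1 := fun h => hma (h ▸ Commute.one_right a)
  refine (S0594.result hp2 U H ⟨inferInstance, hUe⟩ (Subgroup.le_normalizer_of_normal) ?_ a b rfl hqa hqb ?_
    (H ⊓ M) inf_le_left ?_ ?_ ?_).1
  · exact eq_bot_iff.2 ((inf_le_inf_right _ hHMA).trans hfaith.le)
  · intro hPH
    obtain ⟨k, hk⟩ := IsPGroup.iff_orderOf.1 hPH ⟨_, hcH⟩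
    rw [Subgroup.orderOf_mk] at hk
    refine hc1 ?_
    rw [← orderOf_eq_one_iff]
    exact Nat.eq_one_of_dvd_coprimes (hM.pow_right k) (Subgroup.orderOf_mk _ hcM ▸ orderOf_dvd_natCard (⟨_, hcM⟩ : M))
      hk.dvd
  · exact le_trans (le_inf Subgroup.le_normalizer (hHMA.trans hMAn)) Subgroup.inf_normalizer_le_normalizer_inf
  · exact hM.coprime_dvd_left (Subgroup.card_dvd_of_le inf_le_right)
  · intro h
    apply hma
    have : ⁅⁅m, a⁆, a⁆ ∈ ⁅H ⊓ M, Subgroup.zpowers a⁆ :=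
      Subgroup.commutator_mem_commutator ⟨hcH, hcM⟩ (Subgroup.mem_zpowers a)
    rw [h, Subgroup.mem_bot, commutatorElement_eq_one_iff_commute] at this
    exact this.symm

end Cfsg.Agent.SolvStruct.SchmidtSylow
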