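import Cfsg.Agent.SolvStruct.SchmidtSylow.Aut
import Cfsg.Agent.SolvStruct.SchmidtSylow.Config
import Cfsg.Agent.Lib.PLocal.PSolvable
import Cfsg.Agent.Lib.Coprime.SchurZassenhaus
import Cfsg.Agent.Lib.Coprime.Action
import Cfsg.Agent.OddLocal.PLength

/-!
# `p`-length one when the Sylow subgroup is the one of a minimal non-nilpotent group
-/

set_option autoImplicit false

namespace Cfsg.Agent.SolvStruct.SchmidtSylow

open scoped commutatorElement Pointwise
open Cfsg.Agent.PLocal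

variable {p : ℕ} [hp : Fact p.Prime]

/-- The numerical end of the argument, inside the Sylow subgroup. -/
theorem numeric {R : Type*} [Group R] [Finite R] (hR : IsPGroup p R) (h : SchmidtAut p R)
    (hna : ¬ IsMulCommutative R) (hidx : (Subgroup.center R).index = p ^ 2) (hp23 : p = 2 ∨ p = 3)
    (K : Subgroup R) (hKn : K.Normal) (hKsq : ∀ z ∈ Subgroup.center R, z ^ p ∈ K)
    (x₀ : R) (hx₀ : x₀ ∉ Subgroup.center R) (hx₀p : x₀ ^ p ∈ K) (hnK : ∃ x y : R, ⁅x, y⁆ ∉ K) :
    False := by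
  classical
  obtain ⟨hc1, -, hpZ, α, q, hq, hqp, hpow, hαp, hαZ, hstab⟩ := facts hR h hna
  have hstab' : ∀ x : R, (∃ i : ℤ, ∃ z ∈ Subgroup.center R, α x = x ^ i * z) → x ∈ Subgroup.center R := by
    intro x hx
    refine hstab x hx fun htop => hna ⟨⟨fun a b => ?_⟩⟩
    obtain ⟨u, hu, v, hv, rfl⟩ := Subgroup.mem_sup_of_normal_left.1 (htop ▸ Subgroup.mem_top a)
    obtain ⟨w, hw, s, hs, rfl⟩ := Subgroup.mem_sup_of_normal_left.1 (htop ▸ Subgroup.mem_top b)
    obtain ⟨i, rfl⟩ := Subgroup.mem_zpowers_iff.1 hv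
    obtain ⟨j, rfl⟩ := Subgroup.mem_zpowers_iff.1 hs
    have hu' : ∀ g, Commute u g := fun g => (Subgroup.mem_center_iff.1 hu g).symm
    have hw' : ∀ g, Commute w g := fun g => (Subgroup.mem_center_iff.1 hw g).symm
    exact ((hu' _).mul_left ((hw' _).symm.mul_right ((Commute.refl x).zpow_zpow i j))).eq
  set Z := Subgroup.center R with hZ
  let β : R ⧸ Z → R ⧸ Z := Quotient.map' α fun a b hab => by
    rw [QuotientGroup.leftRel_apply] at hab ⊢
    rw [← map_inv, ← map_mul, hαZ _ hab]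
    exact hab
  have hβ : ∀ x : R, β (x : R ⧸ Z) = ((α x : R) : R ⧸ Z) := fun x => rfl
  have hβk : ∀ (k : ℕ) (x : R), β^[k] (x : R ⧸ Z) = (((⇑α)^[k] x : R) : R ⧸ Z) := by
    intro k
    induction k with
    | zero => intro x; rfl
    | succ k ih => intro x; rw [Function.iterate_succ_apply', Function.iterate_succ_apply', ih, hβ]
  have hβq : ∀ c : R ⧸ Z, β^[q] c = c := by
    intro c
    induction c using QuotientGroup.induction_on with
    | _ x => rw [hβk, hpow]
  have hfixed : ∀ c : R ⧸ Z, β c = c → c = 1 := by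
    intro c
    induction c using QuotientGroup.induction_on with
    | _ x =>
      intro hc
      rw [hβ, QuotientGroup.eq] at hc
      rw [QuotientGroup.eq_one_iff]
      exact hstab' x ⟨1, x⁻¹ * α x, by simpa using inv_mem hc, by simp⟩
  have hcard : Nat.card (R ⧸ Z) = p ^ 2 := hidx
  haveI : Fintype (R ⧸ Z) := Fintype.ofFinite _
  haveI := Fact.mk hq
  have hinj : Function.Injective β := fun a b hab => by
    rw [← hβq a, ← hβq b]
    obtain ⟨k, hk⟩ := Nat.exists_eq_succ_of_ne_zero hq.ne_zero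
    rw [hk, Function.iterate_succ_apply, Function.iterate_succ_apply, hab]
  rcases hp23 with rfl | rfl
  · -- the squares
    have hsq : ∀ x : R, (x : R ⧸ Z) = (1 : R ⧸ Z) → x ^ 2 ∈ K := fun x hx =>
      hKsq x ((QuotientGroup.eq_one_iff x).1 hx)
    have hco : ∀ x y : R, (x : R ⧸ Z) = (y : R ⧸ Z) → x ^ 2 ∈ K → y ^ 2 ∈ K := by
      intro x y hxy hxK
      rw [QuotientGroup.eq] at hxy
      have e : y = x * (x⁻¹ * y) := by group
      rw [e, (show Commute x (x⁻¹ * y) from Subgroup.mem_center_iff.1 hxy x).mul_pow]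
      exact mul_mem hxK (hKsq _ hxy)
    obtain ⟨t, ht⟩ : ∃ t : R, t ^ 2 ∉ K := by
      by_contra hall
      push Not at hall
      obtain ⟨x, y, hxy⟩ := hnK
      refine hxy ?_
      have e : ⁅x, y⁆ = x ^ 2 * (x⁻¹ * y) ^ 2 * (y⁻¹) ^ 2 := by
        rw [commutatorElement_def, pow_two, pow_two, pow_two]; group
      rw [e]
      exact mul_mem (mul_mem (hall x) (hall _)) (hall _)
    have hbad : ((t : R) : R ⧸ Z) ≠ 1 := fun e => ht (hsq t e)
    have hgood : ((x₀ : R) : R ⧸ Z) ≠ 1 := fun e => hx₀ ((QuotientGroup.eq_one_iff _).1 e)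
    have h1 : (x₀ : R ⧸ Z) ≠ β (t : R ⧸ Z) := by
      rw [hβ]; intro e; exact ht (by rw [← hαp, map_pow]; exact hco _ _ e hx₀p)
    have h2 : (t : R ⧸ Z) ≠ β (x₀ : R ⧸ Z) := by
      rw [hβ]; intro e; exact ht (hco _ _ e.symm (by rw [← map_pow, hαp]; exact hx₀p))
    have h3 : (x₀ : R ⧸ Z) ≠ (t : R ⧸ Z) := fun e => ht (hco _ _ e hx₀p)
    have h4 : β (x₀ : R ⧸ Z) ≠ β (t : R ⧸ Z) := fun e => h3 (hinj e)
    have hb1 : β (1 : R ⧸ Z) = 1 := by rw [← QuotientGroup.mk_one, hβ, map_one]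
    have hb : ∀ c, c ≠ 1 → β c ≠ 1 ∧ β c ≠ c := fun c hc =>
      ⟨fun e => hc (hinj (e.trans hb1.symm)), fun e => hc (hfixed c e)⟩
    have hfive : ({1, (x₀ : R ⧸ Z), (t : R ⧸ Z), β (x₀ : R ⧸ Z), β (t : R ⧸ Z)} : Finset (R ⧸ Z)).card = 5 := by
      rw [Finset.card_insert_of_notMem (by simp [hgood.symm, hbad.symm, (hb _ hgood).1.symm, (hb _ hbad).1.symm]),
        Finset.card_insert_of_notMem (by simp [h3, (hb _ hgood).2.symm, h1]),
        Finset.card_insert_of_notMem (by simp [h2, (hb _ hbad).2.symm]),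
        Finset.card_insert_of_notMem (by simp [h4]), Finset.card_singleton]
    have := Finset.card_le_univ ({1, (x₀ : R ⧸ Z), (t : R ⧸ Z), β (x₀ : R ⧸ Z), β (t : R ⧸ Z)} : Finset (R ⧸ Z))
    rw [hfive, ← Nat.card_eq_fintype_card, hcard] at this
    omega
  · -- orbits on eight points
    let σ : Equiv.Perm (R ⧸ Z) := Equiv.ofBijective β (Finite.injective_iff_bijective.1 hinj)
    have hσ : σ ^ q ^ 1 = 1 := by
      ext c
      rw [pow_one, Equiv.Perm.coe_pow, Equiv.Perm.one_apply]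
      exact hβq c
    have hfix1 : σ.supportᶜ = {1} := by
      ext c
      rw [Finset.mem_compl, Equiv.Perm.notMem_support, Finset.mem_singleton]
      refine ⟨hfixed c, ?_⟩
      rintro rfl
      show β ((1 : R) : R ⧸ Z) = _
      rw [hβ, map_one]; rfl
    have hmod := Equiv.Perm.card_compl_support_modEq hσ
    rw [hfix1, Finset.card_singleton, ← Nat.card_eq_fintype_card, hcard] at hmod
    have h8 : q ∣ 8 := (Nat.modEq_iff_dvd' (by norm_num)).1 hmod
    obtain rfl : q = 2 := (Nat.prime_dvd_prime_iff_eq hq Nat.prime_two).1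
      (hq.dvd_of_dvd_pow (show q ∣ 2 ^ 3 from h8))
    refine hx₀ (hstab' x₀ ⟨-1, x₀ * α x₀, hstab' _ ⟨1, ⁅α x₀, x₀⁆, hc1 _ _, ?_⟩, by group⟩)
    have h2 : α (α x₀) = x₀ := hpow x₀
    rw [map_mul, h2, zpow_one, Subgroup.mem_center_iff.1 (hc1 (α x₀) x₀) (x₀ * α x₀), commutatorElement_def]
    group

/-- The core statement. -/
theorem sylow_le_pCore {G : Type*} [Group G] [Finite G] (hsol : Cfsg.IsPSolvable p G)
    (hO : Cfsg.pPrimeCore p G = ⊥) (S : Sylow p G) (hS : SchmidtAut p ↥(S : Subgroup G))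
    (hna : ¬ IsMulCommutative ↥(S : Subgroup G)) : (S : Subgroup G) ≤ Cfsg.pCore p G := by
  classical
  by_contra hnle
  set V := Cfsg.pCore p G with hV
  set Qs := (S : Subgroup G) with hQs
  have hVp : IsPGroup p V := Cores.isPGroup_pCore
  have hVQ : V ≤ Qs := Cores.pCore_le_sylow S
  have hCV : Subgroup.centralizer (V : Set G) ≤ V := PSolvable.centralizer_pCore_le hO
    (PSolvable.subgroup hsol _)
  obtain ⟨hc1, hW, -, -⟩ := facts S.2 hS hna
  have hZV : ∀ z : Qs, z ∈ Subgroup.center Qs → (z : G) ∈ V := fun z hz => hCV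
    (Subgroup.mem_centralizer_iff.2 fun v hv =>
      congrArg Subtype.val (Subgroup.mem_center_iff.1 hz ⟨v, hVQ hv⟩))
  have hQcV : ∀ x ∈ Qs, ∀ y ∈ Qs, ⁅x, y⁆ ∈ V := fun x hx y hy => hZV _ (hc1 ⟨x, hx⟩ ⟨y, hy⟩)
  -- `G / V`
  set π₁ := QuotientGroup.mk' V with hπ₁
  have hπ₁s : Function.Surjective π₁ := QuotientGroup.mk'_surjective V
  set Mb := Cfsg.pPrimeCore p (G ⧸ V) with hMb
  set M₁ := Mb.comap π₁ with hM₁
  have hVM₁ : V ≤ M₁ := (QuotientGroup.ker_mk' V).ge.trans (MonoidHom.ker_le_comap _ _)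
  have hMcop : (Nat.card Mb).Coprime p := Cores.coprime_card_pPrimeCore
  have hVcop : ∀ n : ℕ, n.Coprime p → (Nat.card V).Coprime n := fun n hn => by
    obtain ⟨k, hk⟩ := hVp.exists_card_eq
    rw [hk]; exact Nat.Coprime.pow_left k hn.symm
  have hidx : (V.subgroupOf M₁).index = Nat.card Mb := by
    have h1 := Cores.card_comap_eq Mb hπ₁s
    rw [QuotientGroup.ker_mk'] at h1
    have h2 := (V.subgroupOf M₁).card_mul_index
    rw [Nat.card_congr (Subgroup.subgroupOfEquivOfLe hVM₁).toEquiv, hM₁, h1] at h2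
    exact Nat.eq_of_mul_eq_mul_left Nat.card_pos h2
  obtain ⟨M', hM'⟩ := Subgroup.exists_right_complement'_of_coprime (N := V.subgroupOf M₁) (by
    rw [hidx, Nat.card_congr (Subgroup.subgroupOfEquivOfLe hVM₁).toEquiv]
    exact hVcop _ hMcop)
  set M := M'.map M₁.subtype with hM
  have hMcard : Nat.card M = Nat.card Mb := by
    rw [hM, Subgroup.card_map_of_injective M₁.subtype_injective, ← hM'.symm.index_eq_card, hidx]
  have hMp : (Nat.card M).Coprime p := hMcard ▸ hMcop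
  have hMM₁ : M ≤ M₁ := Subgroup.map_subtype_le _
  have hVM : V ⊔ M = M₁ := by
    refine le_antisymm (sup_le hVM₁ hMM₁) ?_
    intro x hx
    obtain ⟨⟨a, b⟩, hab⟩ := hM'.2 ⟨x, hx⟩
    have : x = ((a : M₁) : G) * ((b : M₁) : G) := (congrArg Subtype.val hab).symm
    rw [this]
    exact mul_mem (Subgroup.mem_sup_left a.2) (Subgroup.mem_sup_right ⟨b, b.2, rfl⟩)
  have hMπ : M.map π₁ = Mb := by
    have h1 := congrArg (Subgroup.map π₁) hVM
    rw [Subgroup.map_sup, (Subgroup.map_eq_bot_iff V).2 (QuotientGroup.ker_mk' V).ge, bot_sup_eq,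
      hM₁, Subgroup.map_comap_eq_self_of_surjective hπ₁s] at h1
    exact h1
  have hVsol : Group.IsSolvable V := Coprime.isSolvable_of_isPGroup hVp
  have hVMdis : M ⊓ V = ⊥ := by
    rw [inf_comm]; exact Cores.inf_eq_bot_of_isPGroup_of_coprime hVp hMp
  -- Frattini argument
  have hfrat : ∀ g : G, ∃ v ∈ V, v⁻¹ * g ∈ Subgroup.normalizer (M : Set G) := by
    intro g
    obtain ⟨x, hx, hxg⟩ := Coprime.exists_conj_eq_of_sup_eq (N := V) (H := M) (K := MulAut.conj g • M)
      Subgroup.le_normalizer_of_normal Subgroup.le_normalizer_of_normal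
      (by
        haveI : M₁.Normal := inferInstanceAs (Subgroup.comap π₁ Mb).Normal
        rw [hVM]; conv_rhs => rw [← Subgroup.Normal.conj_smul_eq_self g V]
        rw [← Subgroup.smul_sup, hVM, Subgroup.Normal.conj_smul_eq_self])
      (hVcop _ hMp) (by rw [Coprime.card_conj_smul]; exact hVcop _ hMp) (Or.inl hVsol)
    refine ⟨x, hx, Coprime.conj_smul_eq_self_iff.1 ?_⟩
    rw [map_mul, mul_smul, ← hxg, map_inv, inv_smul_smul]
  set A := Qs ⊓ Subgroup.normalizer (M : Set G) with hA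
  have hQdec : ∀ x ∈ Qs, ∃ v ∈ V, ∃ a ∈ A, v * a = x := fun x hx => by
    obtain ⟨v, hv, hvx⟩ := hfrat x
    exact ⟨v, hv, v⁻¹ * x, Subgroup.mem_inf.2 ⟨mul_mem (inv_mem (hVQ hv)) hx, hvx⟩, mul_inv_cancel_left v x⟩
  -- elements of `S` centralising `M` modulo `V` lie in `V`
  have hAMV : ∀ a ∈ A, a ∈ Subgroup.centralizer (M : Set G) → a ∈ V := by
    intro a ha hac
    set Qb := Qs.map π₁ with hQb
    set C := Qb ⊓ Subgroup.centralizer (Mb : Set (G ⧸ V)) with hC
    suffices hbot : C = ⊥ by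
      have : π₁ a ∈ C := ⟨⟨a, ha.1, rfl⟩, by
        refine Subgroup.mem_centralizer_iff.2 ?_
        rw [← hMπ]
        rintro _ ⟨m, hm, rfl⟩
        rw [← map_mul, ← map_mul, Subgroup.mem_centralizer_iff.1 hac m hm]⟩
      rw [hbot, Subgroup.mem_bot] at this
      exact (QuotientGroup.eq_one_iff a).1 this
    have hQbc : ∀ x ∈ Qb, ∀ y ∈ Qb, Commute x y := by
      rintro _ ⟨x, hx, rfl⟩ _ ⟨y, hy, rfl⟩
      rw [← commutatorElement_eq_one_iff_commute, ← map_commutatorElement]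
      exact (QuotientGroup.eq_one_iff _).2 (hQcV x hx y hy)
    set π₂ := QuotientGroup.mk' Mb with hπ₂
    set T := (Cfsg.pCore p ((G ⧸ V) ⧸ Mb)).comap π₂ with hT
    have hTn : T.Normal := inferInstance
    have hQT : Qb ≤ T := by
      intro x hx
      refine PSolvable.centralizer_pCore_le Cores.pPrimeCore_quotient_pPrimeCore
        (PSolvable.subgroup (PSolvable.quotient (PSolvable.quotient hsol V) Mb) _) ?_
      rw [Subgroup.mem_centralizer_iff]
      intro y hy
      have hy' := Cores.pCore_le_sylow ((S.mapSurjective hπ₁s).mapSurjective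
        (QuotientGroup.mk'_surjective Mb)) hy
      rw [Sylow.coe_mapSurjective, Sylow.coe_mapSurjective] at hy'
      obtain ⟨z, hz, rfl⟩ := hy'
      exact ((hQbc z hz x hx).map π₂).eq
    have hTC : T ≤ Subgroup.normalizer (C : Set (G ⧸ V)) := by
      intro t ht
      have hy' := Cores.pCore_le_sylow ((S.mapSurjective hπ₁s).mapSurjective
        (QuotientGroup.mk'_surjective Mb)) ht
      rw [Sylow.coe_mapSurjective, Sylow.coe_mapSurjective] at hy'
      obtain ⟨z, hz, hzt⟩ := hy'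
      have hzm : z⁻¹ * t ∈ Mb := QuotientGroup.eq.1 hzt
      rw [show t = z * (z⁻¹ * t) by group]
      refine mul_mem ?_ ?_
      · refine Subgroup.centralizer_le_normalizer _ (Subgroup.mem_centralizer_iff.2 fun c hc => ?_)
        exact (hQbc c hc.1 z hz).eq
      · refine Subgroup.centralizer_le_normalizer _ (Subgroup.mem_centralizer_iff.2 fun c hc => ?_)
        exact (Subgroup.mem_centralizer_iff.1 hc.2 _ hzm).symm
    have hCT : C ≤ T := inf_le_left.trans hQT
    have hCp : IsPGroup p C := ((S.2.map π₁)).to_le inf_le_left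
    haveI : (C.subgroupOf T).Normal := Subgroup.normal_subgroupOf_of_le_normalizer hTC
    have h1 : C.subgroupOf T ≤ Cfsg.pCore p T := Cores.le_pCore
      (hCp.comap_of_injective T.subtype T.subtype_injective)
    refine eq_bot_iff.2 ?_
    rw [← Cores.pCore_quotient_pCore (p := p) (G := G)]
    refine le_trans ?_ (Cores.map_subtype_pCore_le T)
    rw [← Subgroup.map_subgroupOf_eq_of_le hCT]
    exact Subgroup.map_mono h1
  -- the kernel
  set Φ := (frattini V).map V.subtype with hΦ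
  set K := Φ ⊔ V ⊓ Subgroup.centralizer (M : Set G) with hK
  haveI hΦn : Φ.Normal := ConjAct.normal_of_characteristic_of_normal
  have hΦV : Φ ≤ V := Subgroup.map_subtype_le _
  have hKV : K ≤ V := sup_le hΦV inf_le_left
  haveI := hVp.isNilpotent
  have hVVΦ : ∀ v ∈ V, ∀ w ∈ V, ⁅v, w⁆ ∈ Φ := fun v hv w hw =>
    ⟨⁅(⟨v, hv⟩ : V), ⟨w, hw⟩⁆, Coprime.commutator_le_frattini V
      (Subgroup.commutator_mem_commutator (Subgroup.mem_top _) (Subgroup.mem_top _)), rfl⟩
  haveI hKn : K.Normal := by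
    refine Subgroup.normalizer_eq_top_iff.1 (eq_top_iff.2 fun g _ => ?_)
    obtain ⟨v, hv, hvg⟩ := hfrat g
    rw [show g = v * (v⁻¹ * g) by group]
    refine mul_mem ?_ ?_
    · refine Coprime.conj_smul_eq_self_iff.1 (Subgroup.eq_of_le_of_card_ge ?_ (Coprime.card_conj_smul _ _).ge)
      rintro _ ⟨k, hk, rfl⟩
      have : ⁅v, k⁆ * k ∈ K := mul_mem (Subgroup.mem_sup_left (hVVΦ v hv k (hKV hk))) hk
      simpa [commutatorElement_def] using this
    · rw [← Coprime.conj_smul_eq_self_iff, hK, Subgroup.smul_sup, Subgroup.Normal.conj_smul_eq_self, Subgroup.smul_inf,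
        Subgroup.Normal.conj_smul_eq_self]
      congr 1
      congr 1
      refine Subgroup.eq_of_le_of_card_ge ?_ (Coprime.card_conj_smul _ _).ge
      rintro _ ⟨c, hc, rfl⟩
      rw [Subgroup.mem_centralizer_iff]
      intro m hm
      set g' := v⁻¹ * g
      have hm' : g'⁻¹ * m * g' ∈ M := by
        simpa using (Subgroup.mem_normalizer_iff.1 (inv_mem hvg) m).1 hm
      have := congrArg (fun z => g' * z * g'⁻¹) (Subgroup.mem_centralizer_iff.1 hc _ hm')
      simpa [mul_assoc] using this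
  set π := QuotientGroup.mk' K with hπ
  have hπs : Function.Surjective π := QuotientGroup.mk'_surjective K
  have hπK : ∀ x, π x = 1 ↔ x ∈ K := fun x => QuotientGroup.eq_one_iff x
  set U := V.map π with hU
  haveI : U.Normal := (inferInstance : V.Normal).map _ hπs
  haveI : IsMulCommutative U := ⟨⟨by
    rintro ⟨_, v, hv, rfl⟩ ⟨_, w, hw, rfl⟩
    refine Subtype.ext (commutatorElement_eq_one_iff_mul_comm.1 ?_)
    rw [← map_commutatorElement, hπK]
    exact Subgroup.mem_sup_left (hVVΦ v hv w hw)⟩⟩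
  have hUe : ∀ u ∈ U, u ^ p = 1 := by
    rintro _ ⟨v, hv, rfl⟩
    rw [← map_pow, hπK]
    exact Subgroup.mem_sup_left ⟨(⟨v, hv⟩ : V) ^ p, Solvable.Basics.pow_mem_frattini hVp _, rfl⟩
  -- no element of `M` centralises `U`
  have hMU : ∀ m ∈ M, π m ∈ Subgroup.centralizer (U : Set (G ⧸ K)) → m = 1 := by
    intro m hm hmU
    set M₂ := M ⊓ (Subgroup.centralizer (U : Set (G ⧸ K))).comap π with hM₂
    have hcop : (Nat.card M₂).Coprime (Nat.card V) :=
      ((hVcop _ hMp).symm).coprime_dvd_left (Subgroup.card_dvd_of_le inf_le_left)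
    have hle : ⁅V, M₂⁆ ≤ K := by
      rw [Subgroup.commutator_le]
      intro v hv x hx
      rw [← hπK, map_commutatorElement, commutatorElement_eq_one_iff_mul_comm]
      exact Subgroup.mem_centralizer_iff.1 hx.2 _ ⟨v, hv, rfl⟩
    have hle2 : ⁅V, M₂⁆ ≤ Φ := by
      rw [← Coprime.commutator_commutator_eq Subgroup.le_normalizer_of_normal hcop (Or.inr hVsol)]
      refine (Subgroup.commutator_mono hle le_rfl).trans ?_
      refine (Coprime.commutator_le_of_forall_eq_mul (X := Φ) fun k hk => ?_).trans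
        (Subgroup.commutator_le_left Φ M₂)
      obtain ⟨x, hx, c, hc, rfl⟩ := Subgroup.mem_sup_of_normal_left.1 hk
      exact ⟨x, hx, c, Subgroup.centralizer_le (inf_le_left : M₂ ≤ M) hc.2, rfl⟩
    have hc : M₂ ≤ Subgroup.centralizer (V : Set G) := by
      refine Coprime.le_centralizer_of_frattini Subgroup.le_normalizer_of_normal
        (hcop.coprime_dvd_right (Subgroup.card_subgroup_dvd_card _)) fun a ha k hk => ?_
      have h1 := inv_mem (hle2 (Subgroup.commutator_mem_commutator hk ha))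
      rw [commutatorElement_inv, commutatorElement_def] at h1
      exact h1
    exact Subgroup.mem_bot.1 (hVMdis.le ⟨hm, hCV (hc ⟨hm, hmU⟩)⟩)
  have hAker : ∀ a ∈ A, π a ∈ Subgroup.centralizer (U : Set (G ⧸ K)) → a ∈ V := by
    intro a ha haU
    refine hAMV a ha (Subgroup.mem_centralizer_iff.2 fun m hm => ?_)
    refine commutatorElement_eq_one_iff_mul_comm.1 (hMU _ ?_ ?_)
    · have := mul_mem hm ((Subgroup.mem_normalizer_iff.1 ha.2 _).1 (inv_mem hm))
      simpa [commutatorElement_def, mul_assoc] using this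
    · have := mul_mem ((inferInstance : (Subgroup.centralizer (U : Set (G ⧸ K))).Normal).conj_mem _ haU (π m))
        (inv_mem haU)
      rw [map_commutatorElement, commutatorElement_def]
      exact this
  set Q' := Qs.map π with hQ'
  set A' := A.map π with hA'
  have hQ'p : IsPGroup p Q' := S.2.map π
  have hUQ : U ≤ Q' := Subgroup.map_mono hVQ
  have hQ'eq : U ⊔ A' = Q' := by
    rw [hU, hA', ← Subgroup.map_sup]
    congr 1
    refine le_antisymm (sup_le hVQ inf_le_left) fun x hx => ?_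
    obtain ⟨v, hv, a, ha, rfl⟩ := hQdec x hx
    exact mul_mem (Subgroup.mem_sup_left hv) (Subgroup.mem_sup_right ha)
  have hcentQ : ∀ x : Qs, π x ∉ Subgroup.centralizer (Q' : Set (G ⧸ K)) → x ∉ Subgroup.center Qs := by
    intro x hx hxc
    refine hx (Subgroup.mem_centralizer_iff.2 ?_)
    rintro _ ⟨y, hy, rfl⟩
    rw [← map_mul, ← map_mul]
    exact congrArg π (congrArg Subtype.val (Subgroup.mem_center_iff.1 hxc ⟨y, hy⟩))
  obtain ⟨hcount, hp23, u, hu, huc⟩ := configuration U A' (M.map π) Q' hUe hQ'p hUQ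
    (Subgroup.map_mono inf_le_left) hQ'eq
    ((Subgroup.map_mono inf_le_right).trans (Subgroup.le_normalizer_map π))
    (hMp.coprime_dvd_left (Subgroup.card_map_dvd _ _))
    (by
      rw [eq_bot_iff]
      rintro _ ⟨⟨m, hm, rfl⟩, hmU⟩
      rw [hMU m hm hmU, map_one]
      exact one_mem _)
    (by
      rintro _ ⟨⟨x, hx, rfl⟩, hxU⟩
      obtain ⟨v, hv, a, ha, rfl⟩ := hQdec x hx
      refine ⟨v * a, mul_mem hv (hAker a ha ?_), rfl⟩
      have hvU : π v ∈ Subgroup.centralizer (U : Set (G ⧸ K)) := Subgroup.mem_centralizer_iff.2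
        fun w hw => congrArg Subtype.val (mul_comm' (M := U) ⟨w, hw⟩ ⟨π v, ⟨v, hv, rfl⟩⟩)
      have := mul_mem (inv_mem hvU) hxU
      rwa [map_mul, inv_mul_cancel_left] at this)
    (by
      rw [eq_bot_iff]
      rintro _ ⟨⟨a, ha, rfl⟩, hac⟩
      have hcom : a ∈ Subgroup.centralizer (M : Set G) := Subgroup.mem_centralizer_iff.2 fun m hm => by
        have h1 : ⁅m, a⁆ ∈ M := by
          have := mul_mem hm ((Subgroup.mem_normalizer_iff.1 ha.2 _).1 (inv_mem hm))
          simpa [commutatorElement_def, mul_assoc] using this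
        have h2 : ⁅m, a⁆ ∈ V := hKV ((hπK _).1 (by
          rw [map_commutatorElement, commutatorElement_eq_one_iff_mul_comm]
          exact Subgroup.mem_centralizer_iff.1 hac _ ⟨m, hm, rfl⟩))
        exact commutatorElement_eq_one_iff_mul_comm.1 (Subgroup.mem_bot.1 (hVMdis.le ⟨h1, h2⟩))
      rw [Subgroup.mem_bot, hπK]
      exact Subgroup.mem_sup_right ⟨hAMV a ha hcom, hcom⟩)
    (by
      intro hbot
      refine hnle fun x hx => ?_
      obtain ⟨v, hv, a, ha, rfl⟩ := hQdec x hx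
      have : π a ∈ A' := ⟨a, ha, rfl⟩
      rw [hbot, Subgroup.mem_bot, hπK] at this
      exact mul_mem hv (hKV this))
    (by
      rintro _ ⟨x, hx, rfl⟩ _ ⟨y, hy, rfl⟩ _ ⟨z, hz, rfl⟩
      rw [← map_commutatorElement]
      exact ((show Commute z ⁅x, y⁆ from congrArg Subtype.val
        (Subgroup.mem_center_iff.1 (hc1 ⟨x, hx⟩ ⟨y, hy⟩) ⟨z, hz⟩))).map π)
    (by
      rintro _ ⟨a, ha, rfl⟩ _ ⟨b, hb, rfl⟩
      exact ⟨⁅a, b⁆, hQcV a ha.1 b hb.1, map_commutatorElement π a b⟩)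
    (by
      rintro E _ ⟨x, hx, rfl⟩ hxc hxE _ ⟨y, hy, rfl⟩ _ ⟨z, hz, rfl⟩
      have := hW ((E.comap π).comap Qs.subtype) ⟨x, hx⟩ (hcentQ _ hxc) (fun w => by
        show π ((⁅(⟨x, hx⟩ : Qs), w⁆ : Qs) : G) ∈ E
        have h1 := hxE (π w) ⟨w, w.2, rfl⟩
        rw [← map_commutatorElement] at h1
        exact h1) ⟨y, hy⟩ ⟨z, hz⟩
      rw [← map_commutatorElement]
      exact this)
  -- back to the Sylow subgroup
  have hnK : ∃ x y : Qs, π ((⁅x, y⁆ : Qs) : G) ≠ 1 := by
    by_contra hall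
    push Not at hall
    obtain ⟨w, hw, rfl⟩ := hu
    refine huc (Subgroup.mem_centralizer_iff.2 ?_)
    rintro _ ⟨y, hy, rfl⟩
    rw [← commutatorElement_eq_one_iff_mul_comm, ← map_commutatorElement]
    exact hall ⟨y, hy⟩ ⟨w, hVQ hw⟩
  let φ : Qs →* Q' := π.subgroupMap Qs
  have hφ : Function.Surjective φ := π.subgroupMap_surjective Qs
  have hcz : Subgroup.center Qs = ((Q' ⊓ Subgroup.centralizer (Q' : Set (G ⧸ K))).subgroupOf Q').comap φ := by
    refine le_antisymm (fun x hx => ?_) (fun x hx => ?_)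
    · refine Subgroup.mem_inf.2 ⟨⟨x, x.2, rfl⟩, Subgroup.mem_centralizer_iff.2 ?_⟩
      rintro _ ⟨y, hy, rfl⟩
      show π y * π x = π x * π y
      rw [← map_mul, ← map_mul]
      exact congrArg π (congrArg Subtype.val (Subgroup.mem_center_iff.1 hx ⟨y, hy⟩))
    · by_contra hxc
      obtain ⟨y, z, hyz⟩ := hnK
      refine hyz ((hπK _).2 (hW (K.subgroupOf Qs) x hxc (fun w => ?_) y z))
      show ((⁅x, w⁆ : Qs) : G) ∈ K
      rw [← hπK, show ((⁅x, w⁆ : Qs) : G) = ⁅(x : G), (w : G)⁆ from rfl, map_commutatorElement,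
        commutatorElement_eq_one_iff_mul_comm]
      exact (Subgroup.mem_centralizer_iff.1 (Subgroup.mem_inf.1 hx).2 (π w) ⟨w, w.2, rfl⟩).symm
  have hindex : (Subgroup.center Qs).index = p ^ 2 := by
    rw [hcz, Subgroup.index_comap_of_surjective _ hφ]
    have h1 := ((Q' ⊓ Subgroup.centralizer (Q' : Set (G ⧸ K))).subgroupOf Q').card_mul_index
    rw [Nat.card_congr (Subgroup.subgroupOfEquivOfLe inf_le_left).toEquiv, hcount, mul_comm (p ^ 2)] at h1
    exact Nat.eq_of_mul_eq_mul_left Nat.card_pos h1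
  have hpowK : ∀ x : Qs, (x : G) ∈ V → ((x ^ p : Qs) : G) ∈ K := fun x hx => by
    rw [← hπK, Subgroup.coe_pow, map_pow]
    exact hUe _ ⟨x, hx, rfl⟩
  obtain ⟨w, hw, rfl⟩ := hu
  refine numeric S.2 hS hna hindex hp23 (K.subgroupOf Qs) inferInstance (fun z hz => hpowK z (hZV z hz))
    ⟨w, hVQ hw⟩ (hcentQ _ huc) (hpowK _ hw) ?_
  obtain ⟨x, y, hxy⟩ := hnK
  exact ⟨x, y, fun h => hxy ((hπK _).2 h)⟩

/-- `p`-length one. -/
theorem pLengthLE_one {G X : Type*} [Group G] [Finite G] [Group X] [Finite X]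
    (hX : Cfsg.IsMinimalNonNilpotent X) (P : Sylow p X) (hPn : (P : Subgroup X).Normal)
    (hP1 : (P : Subgroup X) ≠ ⊥) (hG : Cfsg.IsPSolvable p G) (Q : Sylow p G)
    (e : ↥(Q : Subgroup G) ≃* ↥(P : Subgroup X)) : Cfsg.PLengthLE p 1 G := by
  classical
  set N := Cfsg.pPrimeCore p G with hN
  set f := QuotientGroup.mk' N with hf
  have hfs : Function.Surjective f := QuotientGroup.mk'_surjective N
  set Q₁ := Q.mapSurjective hfs with hQ₁
  have hO : Cfsg.pPrimeCore p (G ⧸ N) = ⊥ := Cores.pPrimeCore_quotient_pPrimeCore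
  have hsol : Cfsg.IsPSolvable p (G ⧸ N) := PSolvable.quotient hG N
  have hinj : Function.Injective (f.subgroupMap (Q : Subgroup G)) := by
    rw [← MonoidHom.ker_eq_bot_iff, eq_bot_iff]
    intro x hx
    have h1 : (x : G) ∈ (Q : Subgroup G) ⊓ N :=
      ⟨x.2, (QuotientGroup.eq_one_iff _).1 (congrArg Subtype.val hx)⟩
    rw [Cores.inf_eq_bot_of_isPGroup_of_coprime Q.2 Cores.coprime_card_pPrimeCore, Subgroup.mem_bot] at h1
    exact Subtype.ext h1
  let e₁ : (Q : Subgroup G) ≃* ((Q : Subgroup G).map f) :=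
    MulEquiv.ofBijective (f.subgroupMap (Q : Subgroup G)) ⟨hinj, f.subgroupMap_surjective _⟩
  have e₂ : (Q₁ : Subgroup (G ⧸ N)) ≃* (P : Subgroup X) :=
    (MulEquiv.subgroupCongr (Sylow.coe_mapSurjective hfs Q)).trans (e₁.symm.trans e)
  have hle : (Q₁ : Subgroup (G ⧸ N)) ≤ Cfsg.pCore p (G ⧸ N) := by
    by_cases hab : IsMulCommutative ↥(Q₁ : Subgroup (G ⧸ N))
    · intro x hx
      refine PSolvable.centralizer_pCore_le hO (PSolvable.subgroup hsol _) ?_
      rw [Subgroup.mem_centralizer_iff]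
      intro y hy
      exact congrArg Subtype.val (mul_comm' (M := (Q₁ : Subgroup (G ⧸ N)))
        ⟨y, Cores.pCore_le_sylow Q₁ hy⟩ ⟨x, hx⟩)
    · exact sylow_le_pCore hsol hO Q₁
        ((schmidtAut_of_minimalNonNilpotent hX P hPn hP1).congr e₂.symm) hab
  rw [OddLocal.pLengthLE_one_iff]
  refine ((Fact.out : p.Prime).coprime_iff_not_dvd.2 fun hd => ?_).symm
  refine Q.not_dvd_index (hd.trans (Subgroup.index_dvd_of_le ?_))
  intro x hx
  exact hle (show f x ∈ (Q₁ : Subgroup (G ⧸ N)) by rw [Sylow.coe_mapSurjective]; exact ⟨x, hx, rfl⟩)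

end Cfsg.Agent.SolvStruct.SchmidtSylow
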