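import Cfsg.Prelude.Def_Transfer
import Cfsg.Agent.Solvable.Basics
import Cfsg.Agent.SolvStruct.Schmidt
import Cfsg.Agent.Lib.PLocal.Cores

/-!
# The automorphism of the normal Sylow subgroup of a minimal non-nilpotent group
-/

set_option autoImplicit false

namespace Cfsg.Agent.SolvStruct.SchmidtSylow

open scoped commutatorElement

/-- `R` has a nontrivial automorphism of prime order `q ≠ p` fixing every proper invariant subgroup. -/
def SchmidtAut (p : ℕ) (R : Type*) [Group R] : Prop :=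
  ∃ α : R ≃* R, ∃ q : ℕ, q.Prime ∧ q ≠ p ∧ (∀ x, (⇑α)^[q] x = x) ∧ (∃ x, α x ≠ x) ∧
    ∀ H : Subgroup R, H ≠ ⊤ → (∀ h ∈ H, α h ∈ H) → ∀ h ∈ H, α h = h

theorem SchmidtAut.congr {p : ℕ} {R R' : Type*} [Group R] [Group R'] (e : R ≃* R')
    (h : SchmidtAut p R) : SchmidtAut p R' := by
  obtain ⟨α, q, hq, hqp, hpow, ⟨x, hx⟩, hfix⟩ := h
  refine ⟨e.symm.trans (α.trans e), q, hq, hqp, fun y => ?_, ⟨e x, by simpa using hx⟩,
    fun H hH hinv h hh => ?_⟩
  · have hsc : Function.Semiconj e α (e.symm.trans (α.trans e)) := fun z => by simp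
    have := (hsc.iterate_right q).eq (e.symm y)
    rw [hpow, e.apply_symm_apply] at this
    exact this.symm
  · have hne : H.comap e.toMonoidHom ≠ ⊤ := fun ht => hH (eq_top_iff.2 fun z _ => by
      have : e.symm z ∈ H.comap e.toMonoidHom := ht ▸ Subgroup.mem_top _
      simpa using this)
    have := hfix _ hne (fun z hz => by simpa using hinv (e z) (by simpa using hz)) (e.symm h)
      (by simpa using hh)
    simp [this]

/-- The normal Sylow subgroup of a minimal non-nilpotent group. -/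
theorem schmidtAut_of_minimalNonNilpotent {X : Type*} [Group X] [Finite X] {p : ℕ} [Fact p.Prime]
    (hX : Cfsg.IsMinimalNonNilpotent X) (P : Sylow p X) (hPn : (P : Subgroup X).Normal)
    (hP1 : (P : Subgroup X) ≠ ⊥) : SchmidtAut p ↥(P : Subgroup X) := by
  classical
  obtain ⟨r, q, hr, hq, hrq, T, Q, hcyc, hQn, hTQ, hTn⟩ := Schmidt.schmidt hX
  haveI := Fact.mk hr
  haveI := Fact.mk hq
  have hcard : Nat.card X = Nat.card (T : Subgroup X) * Nat.card (Q : Subgroup X) := by
    have h1 := Coprime.card_sup_of_coprime (N := (Q : Subgroup X)) (H := (T : Subgroup X))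
      Subgroup.le_normalizer_of_normal
      (IsPGroup.coprime_card_of_ne r q hrq (T : Subgroup X) (Q : Subgroup X) T.2 Q.2).symm
    rw [sup_comm, hTQ, Subgroup.card_top] at h1
    rw [h1, mul_comm]
  have hpq : q = p := by
    by_contra hne
    have hpr : r ≠ p := by
      rintro rfl
      haveI := Sylow.unique_of_normal P hPn
      exact hTn (Subsingleton.elim P T ▸ hPn)
    refine hP1 (Subgroup.card_eq_one.1 ?_)
    obtain ⟨a, ha⟩ := P.2.exists_card_eq
    obtain ⟨b, hb⟩ := T.2.exists_card_eq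
    obtain ⟨c, hc⟩ := Q.2.exists_card_eq
    have hd : Nat.card (P : Subgroup X) ∣ Nat.card X := Subgroup.card_subgroup_dvd_card _
    rw [hcard, ha, hb, hc] at hd
    rw [ha]
    have hco : (p ^ a).Coprime (r ^ b * q ^ c) := Nat.Coprime.mul_right
      (Nat.Coprime.pow _ _ ((Nat.coprime_primes Fact.out hr).2 (Ne.symm hpr)))
      (Nat.Coprime.pow _ _ ((Nat.coprime_primes Fact.out hq).2 (Ne.symm hne)))
    exact Nat.eq_one_of_dvd_coprimes hco dvd_rfl hd
  subst hpq
  haveI := Sylow.unique_of_normal P hPn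
  obtain rfl : Q = P := Subsingleton.elim _ _
  obtain ⟨⟨t, htT⟩, ht⟩ := hcyc.exists_generator
  have hTz : (T : Subgroup X) = Subgroup.zpowers t := by
    refine le_antisymm (fun y hy => ?_) (Subgroup.zpowers_le.2 htT)
    obtain ⟨i, hi⟩ := Subgroup.mem_zpowers_iff.1 (ht ⟨y, hy⟩)
    exact ⟨i, by simpa using congrArg Subtype.val hi⟩
  have hdis : ∀ y ∈ (T : Subgroup X), y ∈ (Q : Subgroup X) → y = 1 := fun y h1 h2 => by
    have := (IsPGroup.disjoint_of_ne r q hrq (T : Subgroup X) (Q : Subgroup X) T.2 Q.2)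
    exact Subgroup.mem_bot.1 (this.le_bot ⟨h1, h2⟩)
  have hrco : ∀ y ∈ (T : Subgroup X), ∀ z ∈ (Q : Subgroup X), ∀ U : Subgroup X,
      Group.IsNilpotent U → y ∈ U → z ∈ U → y * z = z * y := by
    intro y hy z hz U hU hyU hzU
    exact Schmidt.commute_of_nilpotent (T := U) hrq T.2 Q.2 hyU hzU hy hz
  have hnc : ¬ (T : Subgroup X) ≤ Subgroup.centralizer (Q : Set X) := fun h =>
    hTn (Schmidt.not_normal_of_commute hTQ fun y hy z hz => (Subgroup.mem_centralizer_iff.1 (h hy) z hz).symm)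
  -- `tʳ` centralises `Q`
  have htr : ∀ z ∈ (Q : Subgroup X), t ^ r * z = z * t ^ r := by
    intro z hz
    set U := (Q : Subgroup X) ⊔ Subgroup.zpowers (t ^ r)
    have hU : U ≠ ⊤ := by
      intro h
      have h1 : Nat.card X ∣ Nat.card (Q : Subgroup X) * orderOf (t ^ r) := by
        rw [← Subgroup.card_top, ← h, ← Nat.card_zpowers]
        exact PLocal.Cores.card_sup_dvd_of_normal' _ _
      have ht1 : orderOf t ≠ 1 := fun e => by
        rw [orderOf_eq_one_iff] at e
        exact hnc (by rw [hTz, e, Subgroup.zpowers_one_eq_bot]; exact bot_le)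
      rw [hcard, mul_comm, hTz, Nat.card_zpowers, Nat.mul_dvd_mul_iff_left Nat.card_pos] at h1
      have hrd : r ∣ orderOf t := by
        obtain ⟨b, hb⟩ := IsPGroup.iff_orderOf.1 T.2 ⟨t, htT⟩
        rw [Subgroup.orderOf_mk] at hb
        rw [hb] at ht1 ⊢
        exact dvd_pow_self r fun e => ht1 (by rw [e, pow_zero])
      have h2 := Nat.le_of_dvd (orderOf_pos _) h1
      rw [orderOf_pow, Nat.gcd_eq_right hrd] at h2
      exact absurd h2 (not_le.2 (Nat.div_lt_self (orderOf_pos t) hr.one_lt))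
    exact hrco _ (pow_mem htT r) z hz U (hX.2 U hU) (Subgroup.mem_sup_right (Subgroup.mem_zpowers _))
      (Subgroup.mem_sup_left hz)
  let α : (Q : Subgroup X) ≃* (Q : Subgroup X) := MulAut.conjNormal t
  have hiter : ∀ (k : ℕ) (z : (Q : Subgroup X)), (((⇑α)^[k] z : (Q : Subgroup X)) : X) = t ^ k * z * (t ^ k)⁻¹ := by
    intro k
    induction k with
    | zero => intro z; simp
    | succ k ih =>
      intro z
      rw [Function.iterate_succ_apply', MulAut.conjNormal_apply, ih, pow_succ']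
      group
  refine ⟨α, r, hr, hrq, fun z => Subtype.ext ?_, ?_, fun H hH hinv h hh => ?_⟩
  · rw [hiter, htr z z.2, mul_inv_cancel_right]
  · by_contra hfix
    push Not at hfix
    refine hnc ?_
    rw [hTz, Subgroup.zpowers_le]
    intro z hz
    have := congrArg Subtype.val (hfix ⟨z, hz⟩)
    rw [MulAut.conjNormal_apply] at this
    exact (mul_inv_eq_iff_eq_mul.1 this).symm
  · set H' := H.map (Q : Subgroup X).subtype with hH'
    have htH : t ∈ Subgroup.normalizer (H' : Set X) := by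
      refine Coprime.conj_smul_eq_self_iff.1 (Subgroup.eq_of_le_of_card_ge ?_ (Coprime.card_conj_smul _ _).ge)
      rintro _ ⟨_, ⟨z, hz, rfl⟩, rfl⟩
      exact ⟨α z, hinv z hz, MulAut.conjNormal_apply t z⟩
    have hTH : (T : Subgroup X) ≤ Subgroup.normalizer (H' : Set X) := hTz ▸ Subgroup.zpowers_le.2 htH
    have hU : H' ⊔ (T : Subgroup X) ≠ ⊤ := by
      intro h
      refine hH (eq_top_iff.2 fun z _ => ?_)
      obtain ⟨u, hu, v, hv, huv⟩ := (Coprime.mem_sup_of_le_normalizer hTH).1 (h ▸ Subgroup.mem_top (z : X))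
      obtain ⟨w, hw, rfl⟩ := hu
      have hv1 : v = 1 := hdis v hv (by
        have : v = (w : X)⁻¹ * z := by rw [← huv]; simp
        exact this ▸ mul_mem (inv_mem w.2) z.2)
      rw [hv1, mul_one] at huv
      exact (Subtype.ext huv : w = z) ▸ hw
    have := hrco t htT h h.2 _ (hX.2 _ hU) (Subgroup.mem_sup_right htT) (Subgroup.mem_sup_left ⟨h, hh, rfl⟩)
    exact Subtype.ext (by rw [MulAut.conjNormal_apply, this, mul_inv_cancel_right])

section facts

variable {p : ℕ} [hp : Fact p.Prime] {R : Type*} [Group R] [Finite R]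

/-- Basic consequences for a non-abelian `p`-group. -/
theorem facts (hR : IsPGroup p R) (h : SchmidtAut p R) (hna : ¬ IsMulCommutative R) :
    (∀ x y : R, ⁅x, y⁆ ∈ Subgroup.center R) ∧
    (∀ E : Subgroup R, ∀ x : R, x ∉ Subgroup.center R → (∀ y, ⁅x, y⁆ ∈ E) → ∀ y z : R, ⁅y, z⁆ ∈ E) ∧
    (∀ x : R, x ^ p ∈ Subgroup.center R) ∧
    ∃ α : R ≃* R, ∃ q : ℕ, q.Prime ∧ q ≠ p ∧ (∀ x, (⇑α)^[q] x = x) ∧
      (∀ x, α (x ^ p) = x ^ p) ∧ (∀ z ∈ Subgroup.center R, α z = z) ∧
      ∀ x : R, (∃ i : ℤ, ∃ z ∈ Subgroup.center R, α x = x ^ i * z) →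
        Subgroup.center R ⊔ Subgroup.zpowers x ≠ ⊤ →
          x ∈ Subgroup.center R := by
  classical
  haveI := hR.isNilpotent
  obtain ⟨α, q, hq, hqp, hpow, ⟨x₀, hx₀⟩, hfix⟩ := h
  have hZne : Subgroup.center R ≠ ⊤ := fun e => hna ⟨⟨fun a b =>
    (Subgroup.mem_center_iff.1 (e ▸ Subgroup.mem_top b) a)⟩⟩
  have hcenter : ∀ H : Subgroup R, H.Normal → H ≠ ⊤ → (∀ h ∈ H, α h ∈ H) → H ≤ Subgroup.center R := by
    intro H hHn hH hinv
    have hf := hfix H hH hinv
    by_contra hle
    have hC : Subgroup.centralizer (H : Set R) ≠ ⊤ := fun e => hle fun y hy =>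
      Subgroup.mem_center_iff.2 fun g =>
        ((Subgroup.mem_centralizer_iff.1 (e ▸ Subgroup.mem_top g)) y hy).symm
    have hCinv : ∀ c ∈ Subgroup.centralizer (H : Set R), α c ∈ Subgroup.centralizer (H : Set R) := by
      intro c hc
      rw [Subgroup.mem_centralizer_iff] at hc ⊢
      intro y hy
      have := congrArg α (hc y hy)
      rwa [map_mul, map_mul, hf y hy] at this
    apply hx₀
    have hd : ∀ x : R, x⁻¹ * α x ∈ Subgroup.centralizer (H : Set R) := by
      intro x
      rw [Subgroup.mem_centralizer_iff]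
      intro y hy
      have h1 := hf _ (hHn.conj_mem y hy x)
      rw [map_mul, map_mul, map_inv, hf y hy] at h1
      calc y * (x⁻¹ * α x) = x⁻¹ * (x * y * x⁻¹) * α x := by group
        _ = x⁻¹ * (α x * y * (α x)⁻¹) * α x := by rw [h1]
        _ = x⁻¹ * α x * y := by group
    set d := x₀⁻¹ * α x₀ with hd'
    have hdfix := hfix _ hC hCinv d (hd x₀)
    have hαx : α x₀ = x₀ * d := by rw [hd', mul_inv_cancel_left]
    have hit : ∀ k : ℕ, (⇑α)^[k] x₀ = x₀ * d ^ k := by
      intro k
      induction k with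
      | zero => simp
      | succ k ih => rw [Function.iterate_succ_apply', ih, map_mul, map_pow, hdfix, hαx, mul_assoc, ← pow_succ']
    have hdq : d ^ q = 1 := by
      have := (hit q).symm.trans (hpow x₀)
      simpa using this
    obtain ⟨k, hk⟩ := IsPGroup.iff_orderOf.1 hR d
    have hd1 : d = 1 := by
      rw [← orderOf_eq_one_iff]
      refine Nat.eq_one_of_dvd_coprimes (Nat.Coprime.pow_left k ((Nat.coprime_primes hp.out hq).2 hqp.symm))
        hk.dvd (orderOf_dvd_of_pow_eq_one hdq)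
    rw [hαx, hd1, mul_one]
  have hchar : ∀ H : Subgroup R, H.Characteristic → H ≠ ⊤ →
      H ≤ Subgroup.center R ∧ ∀ h ∈ H, α h = h := fun H hH hne => by
    have hinv : ∀ h ∈ H, α h ∈ H := fun h hh => by
      have := Subgroup.characteristic_iff_map_eq.1 hH α
      rw [← this]; exact ⟨h, hh, rfl⟩
    exact ⟨hcenter H inferInstance hne hinv, hfix H hne hinv⟩
  haveI : Nontrivial R := by
    by_contra hn
    rw [not_nontrivial_iff_subsingleton] at hn
    exact hna ⟨⟨fun a b => Subsingleton.elim _ _⟩⟩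
  haveI : Group.IsSolvable R := Coprime.isSolvable_of_isPGroup hR
  have hΦ := hchar (frattini R) inferInstance fun e =>
    bot_ne_top (α := Subgroup R) (frattini_nongenerating (by rw [bot_sup_eq, e]))
  have hcomm := hchar (_root_.commutator R) inferInstance (IsSolvable.commutator_lt_top_of_nontrivial (G := R)).ne
  have hc1 : ∀ x y : R, ⁅x, y⁆ ∈ Subgroup.center R := fun x y =>
    hcomm.1 (Subgroup.commutator_mem_commutator (Subgroup.mem_top x) (Subgroup.mem_top y))
  have hcfix : ∀ x y : R, α ⁅x, y⁆ = ⁅x, y⁆ := fun x y =>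
    hcomm.2 _ (Subgroup.commutator_mem_commutator (Subgroup.mem_top x) (Subgroup.mem_top y))
  have hZfix := hchar (Subgroup.center R) inferInstance hZne
  have hnormal : ∀ H : Subgroup R, Subgroup.center R ≤ H → H.Normal := fun H hH =>
    ⟨fun h hh g => by
      have : ⁅g, h⁆ * h ∈ H := mul_mem (hH (hc1 g h)) hh
      simpa [commutatorElement_def] using this⟩
  refine ⟨hc1, fun E x hx hxE y z => ?_, fun x => hΦ.1 (Solvable.Basics.pow_mem_frattini hR x), α, q, hq,
    hqp, hpow, fun x => hΦ.2 _ (Solvable.Basics.pow_mem_frattini hR x), hZfix.2, ?_⟩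
  · let W : Subgroup R :=
      { carrier := {x | ∀ y, ⁅x, y⁆ ∈ E}
        one_mem' := fun y => by simp
        mul_mem' := fun {a b} ha hb y => by
          rw [commutatorElement_mul_left_eq_conj_mul,
            Subgroup.mem_center_iff.1 (hc1 b y) a, mul_inv_cancel_right]
          exact mul_mem (hb y) (ha y)
        inv_mem' := fun {a} ha y => by
          have h1 : ⁅a⁻¹, y⁆ = a⁻¹ * ⁅a, y⁆⁻¹ * a := by simp [commutatorElement_def]; group
          rw [h1, Subgroup.mem_center_iff.1 (inv_mem (hc1 a y)) a⁻¹, inv_mul_cancel_right]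
          exact inv_mem (ha y) }
    have hW : Subgroup.center R ≤ W := fun c hc u => by
      have : ⁅c, u⁆ = 1 := commutatorElement_eq_one_iff_mul_comm.2 (Subgroup.mem_center_iff.1 hc u).symm
      rw [this]; exact one_mem _
    by_contra hyz
    refine hx (hcenter W (hnormal W hW) (fun e => hyz ?_) (fun c hc u => ?_) hxE)
    · exact (e ▸ Subgroup.mem_top y : y ∈ W) z
    · have := hc (α.symm u)
      rw [← α.apply_symm_apply u, ← map_commutatorElement, hcfix]
      exact this
  · rintro x ⟨i, z, hz, hαx⟩ hne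
    have := hcenter _ (hnormal _ le_sup_left) hne fun c hc => by
      haveI : (Subgroup.center R).Normal := inferInstance
      obtain ⟨u, hu, v, hv, rfl⟩ := Subgroup.mem_sup_of_normal_left.1 hc
      obtain ⟨k, rfl⟩ := Subgroup.mem_zpowers_iff.1 hv
      rw [map_mul, map_zpow, hαx, hZfix.2 u hu]
      exact mul_mem (Subgroup.mem_sup_left hu) (zpow_mem (mul_mem
        (Subgroup.mem_sup_right (Subgroup.zpow_mem _ (Subgroup.mem_zpowers x) i)) (Subgroup.mem_sup_left hz)) k)
    exact this (Subgroup.mem_sup_right (Subgroup.mem_zpowers x))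

end facts

end Cfsg.Agent.SolvStruct.SchmidtSylow
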